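import Cfsg.Agent.W2Q.Defs
import Cfsg.Agent.Perm.Witt
import Cfsg.Agent.Known.PSL2Recog4
import Cfsg.Agent.S0806

/-! Transitive groups of degree `2 q + 1`: the group theoretic facts. -/

set_option autoImplicit false

open scoped ComplexConjugate ComplexOrder MonoidAlgebra
open Cfsg Cfsg.Lib.Char Cfsg.Lib.Block Cfsg.Lib.Block.Princ Cfsg.Lib.Block.Idem Cfsg.Lib.PrimeOne
open MulAction Subgroup MonoidAlgebra

open Cfsg.Lib.W4Q (av io st gs ev mu gal HK)

namespace Cfsg.Lib.W2Q

universe u

namespace St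

variable {G : Type u} [Group G] [Finite G] {p q : ℕ} [hp : Fact p.Prime] [hq : Fact q.Prime]
  [MulAction G (ZMod p)] (S : St G p q)

namespace KGa

theorem xpow (i : ℕ) (j : ZMod p) : S.x ^ i • j = j + i := by
  induction i with
  | zero => simp
  | succ i ih => rw [pow_succ', mul_smul, ih, S.hx, Nat.cast_succ, add_assoc]

theorem ypow (k : ℕ) (j : ZMod p) : S.y ^ k • j = S.a ^ k * j := by
  induction k with
  | zero => simp
  | succ k ih => rw [pow_succ', mul_smul, ih, S.hy, pow_succ', mul_assoc]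

include S in
theorem ext {g h : G} (e : ∀ j : ZMod p, g • j = h • j) : g = h := S.faith.eq_of_smul_eq_smul e

theorem x_ne : S.x ≠ 1 := fun e => by simpa [e] using S.hx 0

theorem ox : orderOf S.x = p :=
  orderOf_eq_prime (ext S fun j => by rw [xpow]; simp) (x_ne S)

theorem a_pow {k : ℕ} (h : ¬ q ∣ k) : S.a ^ k ≠ 1 := fun e =>
  h (S.ha ▸ orderOf_dvd_of_pow_eq_one e)

theorem oy : orderOf S.y = q := by
  refine orderOf_eq_prime (ext S fun j => by
    rw [ypow, orderOf_dvd_iff_pow_eq_one.1 S.ha.dvd, one_mul, one_smul]) fun e => ?_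
  have := S.hy 1
  rw [e, one_smul, mul_one] at this
  exact a_pow S hq.out.not_dvd_one (by rw [← this, one_pow])

theorem cardH : Nat.card G = p * Nat.card S.H := by
  have : IsPretransitive G (ZMod p) := ⟨fun a b => ⟨S.x ^ (b - a).val, by rw [xpow]; simp⟩⟩
  rw [← S.H.index_mul_card, index_stabilizer_of_transitive, Nat.card_zmod]

theorem cardL : Nat.card S.H = 2 * q * Nat.card S.L := by
  rw [Perm.card_eq_ncard_mul_card_inf_stabilizer S.H (1 : ZMod p) {0}ᶜ fun z => ⟨fun h =>
    (S.two 0 1 0 z zero_ne_one (Ne.symm h)).imp fun g hg => hg, ?_⟩]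
  · have := Set.ncard_add_ncard_compl ({0} : Set (ZMod p))
    rw [Set.ncard_singleton, Nat.card_zmod] at this
    have := S.hpq
    congr 1
    omega
  · rintro ⟨g, hg, rfl⟩ e
    exact one_ne_zero (MulAction.injective g (e.trans (mem_stabilizer_iff.1 hg).symm))

include S in
theorem dvd_fac : Nat.card G ∣ p.factorial := by
  have := S.faith
  have := card_dvd_of_injective (toPermHom G (ZMod p)) toPerm_injective
  rwa [Nat.card_perm, Nat.card_zmod] at this

theorem ndvd : ¬ p ∣ Nat.card S.H := fun h => by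
  have h1 := dvd_fac S
  rw [cardH S, ← Nat.mul_factorial_pred hp.out.ne_zero] at h1
  have := hp.out.dvd_factorial.1 (h.trans (Nat.dvd_of_mul_dvd_mul_left hp.out.pos h1))
  have := hp.out.pos
  omega

theorem cent : centralizer ({S.x} : Set G) = zpowers S.x := by
  refine le_antisymm (fun c hc => ?_) (zpowers_le.2 (mem_centralizer_singleton_iff.2 rfl))
  have h : Commute c S.x := mem_centralizer_singleton_iff.1 hc
  refine ext S (g := S.x ^ (c • (0 : ZMod p)).val) (h := c) (fun j => ?_) ▸ npow_mem_zpowers _ _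
  have := congrArg (· • (0 : ZMod p)) (h.pow_right j.val).eq
  simp only [mul_smul, xpow, ZMod.natCast_val, ZMod.cast_id', id_eq, zero_add] at this ⊢
  rw [this, add_comm]

theorem card_x : Nat.card (zpowers S.x) = p := by rw [Nat.card_zpowers, ox]

theorem y_mem : S.y ∈ normalizer ((zpowers S.x : Subgroup G) : Set G) := by
  refine mem_normalizer_fintype ?_
  rintro _ ⟨k, rfl⟩
  have : S.y * S.x * S.y⁻¹ = S.x ^ S.a.val := mul_inv_eq_iff_eq_mul.2 (ext S fun j => by
    simp only [mul_smul, xpow, S.hx, S.hy, ZMod.natCast_val, ZMod.cast_id', id_eq, mul_add,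
      mul_one])
  change S.y * S.x ^ k * S.y⁻¹ ∈ zpowers S.x
  rw [← conj_zpow, this]
  exact zpow_mem (npow_mem_zpowers _ _) _

theorem cardN : Nat.card (normalizer ((zpowers S.x : Subgroup G) : Set G)) = p * q := by
  rw [Perm.card_eq_ncard_mul_card_inf_stabilizer _ (0 : ZMod p) Set.univ fun z => ⟨fun _ =>
    ⟨S.x ^ z.val, le_normalizer (npow_mem_zpowers _ _), by rw [xpow]; simp⟩, fun _ => trivial⟩,
    Set.ncard_univ, Nat.card_zmod]
  refine congrArg _ (Eq.trans ?_ ((Nat.card_zpowers S.y).trans (oy S)))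
  congr 2
  refine SetLike.coe_set_eq.2 (le_antisymm (fun g hg => ?_)
    (zpowers_le.2 (mem_inf.2 ⟨y_mem S, by rw [mem_stabilizer_iff, S.hy, mul_zero]⟩)))
  obtain ⟨i, k, rfl⟩ := S.norm g hg.1
  have := mem_stabilizer_iff.1 hg.2
  rw [mul_smul, ypow, xpow, mul_zero, zero_add] at this
  rw [ext S (g := S.x ^ i) (h := 1) fun j => by rw [xpow, this, add_zero, one_smul], one_mul]
  exact npow_mem_zpowers _ _

theorem idx : (zpowers S.x).relIndex (normalizer ((zpowers S.x : Subgroup G) : Set G)) = q := by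
  have := ((zpowers S.x).subgroupOf (normalizer ((zpowers S.x : Subgroup G) : Set G))).card_mul_index
  rw [cardN, Nat.card_congr (subgroupOfEquivOfLe le_normalizer).toEquiv, card_x] at this
  exact Nat.eq_of_mul_eq_mul_left hp.out.pos this

include S in
theorem npsl : IsEmpty (G ≃* Matrix.ProjectiveSpecialLinearGroup (Fin 2) (ZMod p)) := ⟨fun e => by
  have h2 := S.hpq
  have h3 := S.q11
  have h1 : (S.H.map e.toMonoidHom).index = p := by
    rw [index_map_of_bijective e.bijective]
    exact Nat.eq_of_mul_eq_mul_right Nat.card_pos (S.H.index_mul_card.trans (cardH S))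
  have := (Cfsg.Agent.S0806.result (ZMod.card p) (by
    simp only [Finset.mem_insert, Finset.mem_singleton]; omega)).1 (S.H.map e.toMonoidHom)
    fun h => by rw [h, index_top] at h1; omega
  omega⟩

end KGa

open KGa

theorem kg : S.KG := by
  obtain ⟨P, hP⟩ := PS.exists_sylow_zpowers (ox S) (cent S)
  have cP : Nat.card P = p := hP ▸ card_x S
  have := S.simple
  have cent' := (PS.centralizer_zpowers S.x).trans (cent S)
  have gen : normalClosure ({S.x} : Set G) = ⊤ :=
    normalClosure_normal.eq_bot_or_eq_top.resolve_left fun h =>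
      x_ne S (h.le (subset_normalClosure rfl))
  refine ⟨ox S, oy S, cardH S, cardL S, ndvd S, ⟨P, hP.symm⟩, cent S, cent', idx S,
    ⟨card_x S, le_normalizer, le_rfl, hP ▸ TI.free_of_ti P (TI.ti_of_card P cP), y_mem S, ?_,
      fun n hn => ?_⟩, fun g hg => ?_, ?_, gen, fun i k hk => ?_, fun k j hk h => ?_,
    fun i j hi h => ?_, fun r hr h => hr.dvd_factorial.1 (h.trans (dvd_fac S)), npsl S,
    fun V _ _ _ σ h => ?_⟩
  · rw [oy]
    intro h
    have := Nat.le_of_dvd hq.out.pos h
    have := S.hpq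
    omega
  · obtain ⟨i, k, rfl⟩ := S.norm n hn
    exact ⟨_, npow_mem_zpowers _ _, _, npow_mem_zpowers _ _, rfl⟩
  · have ho := orderOf_pow_orderOf_div (orderOf_pos g).ne' hg
    obtain ⟨k, hk⟩ := PS.exists_conj_mem P cP ho
    have h1 : k * g * k⁻¹ ∈ zpowers S.x := by
      rw [← cent', ← hP, ← PS.centralizer_singleton_eq cP hk fun e => hp.out.ne_one (by
        rw [← ho, conj_eq_one_iff.1 e, orderOf_one]), mem_centralizer_singleton_iff, ← conj_pow]
      exact (Commute.self_pow _ _).eq
    obtain ⟨i, hi⟩ := mem_powers_iff_mem_zpowers.2 h1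
    refine ⟨i, fun d => ?_, (isConj_iff.2 ⟨k, hi.symm⟩).symm⟩
    rw [conj_eq_one_iff.1 (hi.symm.trans (orderOf_dvd_iff_pow_eq_one.1 ((ox S).symm ▸ d))),
      orderOf_one] at hg
    exact hp.out.not_dvd_one hg
  · refine (inferInstance : (commutator G).Normal).eq_bot_or_eq_top.resolve_left fun h => ?_
    have := (commutator_eq_bot_iff G).1 h
    exact S.nsolv (Group.isSolvable_of_comm mul_comm')
  · refine isConj_iff.2 ⟨S.x ^ ((i : ZMod p) / (1 - S.a ^ k)).val,
      mul_inv_eq_iff_eq_mul.2 (ext S fun j => ?_)⟩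
    have := sub_ne_zero.2 (a_pow S hk).symm
    simp only [mul_smul, xpow, ypow, ZMod.natCast_val, ZMod.cast_id', id_eq]
    field_simp
    ring
  · rw [ypow] at h
    exact (mul_left_eq_self₀.1 h).resolve_left (a_pow S hk)
  · rw [xpow, add_eq_left, ZMod.natCast_eq_zero_iff] at h
    exact hi h
  · by_contra! hd
    have := charP_kM S.hM
    have h1 := (TI.index_normalizer_of_small σ ((MonoidHom.ker_eq_bot_iff _).1
      ((MonoidHom.normal_ker σ).eq_bot_or_eq_top.resolve_right fun e => h (e.ge (mem_top _)))) hd P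
      hP.symm cP gen fun e => S.nsolv (Group.isSolvable_of_comm fun a b => by
        obtain ⟨i, rfl⟩ := (cent S).le (e (mem_top a))
        obtain ⟨j, rfl⟩ := (cent S).le (e (mem_top b))
        exact zpow_mul_comm _ _ _)).2.1
    have h2 := S.hpq
    have h3 := S.q11
    have h4 := (normalizer ((P : Subgroup G) : Set G)).card_mul_index
    rw [h1, hP, cardN] at h4
    refine (npsl S).false (Known.psl2_of_card_sylow (by omega) ?_
      (P.card_eq_index_normalizer.trans h1)).some
    rw [← h4, show p ^ 2 - 1 = 2 * q * (p + 1) from Nat.sub_eq_of_eq_add (by rw [h2]; ring)]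
    ring

end St

end Cfsg.Lib.W2Q
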