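import Cfsg.Agent.W2Q.Defs

/-! # Restrictions to the Sylow normalizer -/

set_option autoImplicit false

open scoped ComplexConjugate ComplexOrder MonoidAlgebra
open Cfsg Cfsg.Lib.Char Cfsg.Lib.Block Cfsg.Lib.Block.Princ Cfsg.Lib.Block.Idem Cfsg.Lib.PrimeOne
open MulAction Subgroup MonoidAlgebra

open Cfsg.Lib.W4Q (av io st gs ev mu gal HK)

namespace Cfsg.Lib.W2Q

universe u

namespace KNx

section Fourier

variable {q : ℕ} [Fact q.Prime]

/-- The Fourier coefficients of a sequence of length `q`. -/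
noncomputable def Fc (θ : ℕ → ℂ) (j : ZMod q) : ℂ :=
  (q : ℂ)⁻¹ * ∑ k ∈ Finset.range q, θ k * ZMod.stdAddChar (-(j * (k : ZMod q)))

theorem Fc_eq_1' : type_of% @Fc.eq_1 := @Fc.eq_1

theorem q_ne : (q : ℂ) ≠ 0 := Nat.cast_ne_zero.2 (Fact.out : q.Prime).ne_zero

theorem sum_psi (b : ZMod q) : ∑ j : ZMod q, ZMod.stdAddChar (j * b) = if b = 0 then (q : ℂ) else 0 := by
  rw [AddChar.sum_mulShift b (ZMod.isPrimitive_stdAddChar q), ZMod.card]
  split_ifs <;> simp

theorem Fc_congr {θ θ' : ℕ → ℂ} (h : ∀ k < q, θ k = θ' k) (j : ZMod q) : Fc θ j = Fc θ' j := by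
  unfold Fc
  rw [Finset.sum_congr rfl fun k hk => by rw [h k (Finset.mem_range.1 hk)]]

theorem Fc_inv (θ : ℕ → ℂ) {l : ℕ} (hl : l < q) :
    ∑ j : ZMod q, Fc θ j * ZMod.stdAddChar (j * (l : ZMod q)) = θ l := by
  have : ∀ j : ZMod q, Fc θ j * ZMod.stdAddChar (j * (l : ZMod q)) = ∑ k ∈ Finset.range q,
      (q : ℂ)⁻¹ * θ k * ZMod.stdAddChar (j * ((l : ZMod q) - (k : ZMod q))) := by
    intro j
    rw [Fc, mul_assoc, Finset.sum_mul, Finset.mul_sum]
    refine Finset.sum_congr rfl fun k _ => ?_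
    rw [mul_assoc, ← AddChar.map_add_eq_mul, mul_assoc]
    congr 3
    ring
  rw [Finset.sum_congr rfl fun j _ => this j, Finset.sum_comm]
  simp only [← Finset.mul_sum, sum_psi]
  rw [Finset.sum_eq_single l, if_pos (sub_self _), mul_right_comm, inv_mul_cancel₀ q_ne, one_mul]
  · intro k hk hkl
    rw [if_neg, mul_zero]
    rw [sub_eq_zero, ZMod.natCast_eq_natCast_iff', Nat.mod_eq_of_lt hl,
      Nat.mod_eq_of_lt (Finset.mem_range.1 hk)]
    exact hkl.symm
  · exact fun h => absurd (Finset.mem_range.2 hl) h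

theorem Fc_sum (θ : ℕ → ℂ) : ∑ j : ZMod q, Fc θ j = θ 0 := by
  simpa using Fc_inv (q := q) θ (Fact.out : q.Prime).pos

theorem Fc_one (j : ZMod q) : Fc (fun _ => 1) j = if j = 0 then 1 else 0 := by
  have : ∑ k ∈ Finset.range q, (1 : ℂ) * ZMod.stdAddChar (-(j * (k : ZMod q))) =
      ∑ k : ZMod q, ZMod.stdAddChar (k * -j) :=
    Finset.sum_nbij' (fun k => (k : ZMod q)) ZMod.val (by simp) (by simp [ZMod.val_lt])
      (fun k hk => ZMod.val_cast_of_lt (Finset.mem_range.1 hk)) (by simp)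
      fun k _ => by rw [one_mul, mul_neg, mul_comm]
  rw [Fc, this, sum_psi]
  by_cases h : j = 0 <;> simp [h]

theorem Fc_single {θ : ℕ → ℂ} (h : ∀ k, 0 < k → k < q → θ k = 0) (j : ZMod q) :
    Fc θ j = (q : ℂ)⁻¹ * θ 0 := by
  rw [Fc, Finset.sum_eq_single 0]
  · simp
  · intro k hk h0
    rw [h k (Nat.pos_of_ne_zero h0) (Finset.mem_range.1 hk), zero_mul]
  · exact fun h => absurd (Finset.mem_range.2 (Fact.out : q.Prime).pos) h

theorem Fc_mul (c : ℂ) (θ : ℕ → ℂ) (j : ZMod q) : Fc (fun k => c * θ k) j = c * Fc θ j := by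
  simp only [Fc, mul_assoc, ← Finset.mul_sum]
  ring

theorem Fc_finsum {ι : Type*} (s : Finset ι) (θ : ι → ℕ → ℂ) (j : ZMod q) :
    Fc (fun k => ∑ i ∈ s, θ i k) j = ∑ i ∈ s, Fc (θ i) j := by
  simp only [Fc, Finset.sum_mul, ← Finset.mul_sum]
  rw [Finset.sum_comm]

theorem Fc_gal {σ : ℂ ≃+* ℂ} {n : ZMod q}
    (h : ∀ t, σ (ZMod.stdAddChar (n * t)) = ZMod.stdAddChar t) (θ : ℕ → ℂ) (j : ZMod q) :
    Fc (fun k => σ (θ k)) j = σ (Fc θ (n * j)) := by
  simp only [Fc, map_mul, map_sum, map_inv₀, map_natCast, mul_assoc, ← mul_neg, h]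

theorem psi_pow (m : ℕ) (t : ZMod q) :
    ZMod.stdAddChar t ^ m = ZMod.stdAddChar ((m : ZMod q) * t) := by
  rw [← AddChar.map_nsmul_eq_pow, nsmul_eq_mul]

theorem psi_pow_q (t : ZMod q) : ZMod.stdAddChar t ^ q = 1 := by
  rw [psi_pow]; simp

variable {K : Type*} [Group K] [Finite K]

omit [Finite K] in
theorem exists_eps {y : K} (hy : y ^ q = 1) (j : ZMod q) : ∃ ε : ℂ[K], IsIdempotentElem ε ∧
    (∀ b, Commute (single y (1 : ℂ)) b → Commute ε b) ∧
    ∀ (X : IrrCharacter K) b, ev X (b * ε) = Fc (fun k => ev X (b * single (y ^ k) 1)) j := by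
  let f : ℕ → ℂ[K] := fun k => ZMod.stdAddChar (-(j * (k : ZMod q))) • single (y ^ k) 1
  let s := ∑ k ∈ Finset.range q, f k
  have h1 : single y (1 : ℂ) * s = ZMod.stdAddChar j • s := by
    have h2 : ∑ k ∈ Finset.range q, f (k + 1) = s := by
      have := (Finset.sum_range_succ f q).symm.trans (Finset.sum_range_succ' f q)
      rw [show f q = f 0 by simp [f, hy]] at this
      exact (add_right_cancel this).symm
    conv_rhs => rw [← h2]
    rw [Finset.mul_sum, Finset.smul_sum]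
    refine Finset.sum_congr rfl fun k _ => ?_
    simp only [f]
    rw [mul_smul_comm, single_mul_single, smul_smul, ← AddChar.map_add_eq_mul, one_mul, pow_succ']
    congr 2
    push_cast
    ring
  have h3 : ∀ k : ℕ, single (y ^ k) (1 : ℂ) * s = ZMod.stdAddChar (j * (k : ZMod q)) • s := by
    intro k
    induction k with
    | zero => simp [← one_def]
    | succ k ih =>
      rw [pow_succ', ← one_mul (1 : ℂ), ← single_mul_single, mul_assoc, ih, mul_smul_comm, h1,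
        smul_smul, ← AddChar.map_add_eq_mul]
      congr 2
      push_cast
      ring
  refine ⟨(q : ℂ)⁻¹ • s, ?_, fun b hb => ?_, fun X b => ?_⟩
  · have : s * s = (q : ℂ) • s := by
      conv_lhs => rw [show s * s = (∑ k ∈ Finset.range q, f k) * s from rfl, Finset.sum_mul]
      simp only [f, smul_mul_assoc, h3, smul_smul, ← AddChar.map_add_eq_mul]
      simp [Nat.cast_smul_eq_nsmul]
    rw [IsIdempotentElem, smul_mul_assoc, mul_smul_comm, this, smul_smul (q : ℂ)⁻¹ (q : ℂ),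
      inv_mul_cancel₀ q_ne, one_smul]
  · refine Commute.smul_left (Commute.sum_left _ _ _ fun k _ => Commute.smul_left ?_ _) _
    have := hb.pow_left k
    rwa [single_pow, one_pow] at this
  · simp only [s, f, mul_smul_comm, Finset.mul_sum, map_smul, map_sum, Fc, smul_eq_mul]
    exact Finset.sum_congr rfl fun k _ => by ring

end Fourier

section General

variable {K : Type*} [Group K] [Finite K]

theorem pc_eq [Fintype K] (a : ℂ[K]) (g : K) : Pim.pc a g = ∑ h, a.coeff (h * g⁻¹ * h⁻¹) := by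
  classical
  have h1 := Pim.trace_lr a (single g 1)
  rw [LinearMap.trace_eq_matrix_trace ℂ (MonoidAlgebra.basis K ℂ), Matrix.trace] at h1
  simp only [evalFn_single, one_mul] at h1
  rw [Pim.pc, Finset.sum_apply]
  simp only [Pi.smul_apply, smul_eq_mul]
  rw [← h1]
  refine Finset.sum_congr rfl fun h _ => ?_
  simp [LinearMap.toMatrix_apply, Pim.lr_apply, MonoidAlgebra.basis, single_mul_single, mul_assoc]

theorem ev_av (X : IrrCharacter K) (x g : K) : ev X (av (zpowers x) * single g 1) =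
    (orderOf x : ℂ)⁻¹ * ∑ i ∈ Finset.range (orderOf x), (X : K → ℂ) (x ^ i * g) := by
  classical
  have := Fintype.ofFinite K
  rw [ev, evalFn_mul_single, ← Finset.sum_image (g := fun i => x ^ i)
    (f := fun h => (X : K → ℂ) (h * g)) (by simpa using pow_injOn_Iio_orderOf), Finset.mul_sum]
  symm
  refine Finset.sum_subset_zero_on_sdiff (Finset.subset_univ _) (fun h hh => ?_) fun h hh => ?_
  · rw [Finset.mem_sdiff, ← mem_zpowers_iff_mem_range_orderOf] at hh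
    simp [av, hh.2]
  · rw [← mem_zpowers_iff_mem_range_orderOf] at hh
    simp only [av, coeff_ofFun, if_pos hh, Nat.card_zpowers]

theorem floor_cast {z : ℂ} (h : ∃ n : ℕ, z = n) : ((⌊z.re⌋₊ : ℕ) : ℂ) = z := by
  obtain ⟨n, rfl⟩ := h
  simp

end General

variable {G : Type u} [Group G] [Finite G] {p q : ℕ} [Fact p.Prime] [Fact q.Prime]
  [MulAction G (ZMod p)] {S : St G p q}

theorem nC_eq (θ : G → ℂ) (j : ZMod q) : S.nC θ j =
    Fc (fun k => (p : ℂ)⁻¹ * ∑ i ∈ Finset.range p, θ (S.x ^ i * S.y ^ k)) j := by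
  rw [Fc_mul, Fc, St.nC, Finset.sum_comm, mul_inv, mul_assoc]
  simp only [Finset.sum_mul]

theorem aC_eq (θ : S.H → ℂ) (j : ZMod q) : S.aC θ j = Fc (fun k => θ (S.yH ^ k)) j := rfl

theorem nv_cast (hk : HK G) (g : S.KG) (X : IrrCharacter G) (j : ZMod q) :
    (S.nv X j : ℂ) = S.nC X j := by
  obtain ⟨ε, h1, h2, h3⟩ := exists_eps (q := q) (y := S.y) (orderOf_dvd_iff_pow_eq_one.1 g.oy.dvd) j
  have h4 : Commute ε (av (zpowers S.x)) := h2 _ ((commute_single_iff _ _).2 fun t => by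
    simp only [av, coeff_ofFun, ← (mem_normalizer_iff.1 g.cy.mem t)])
  refine floor_cast ⟨_, ((hk.mu_cast _ ((hk.av_idem _).mul_of_commute h4.symm h1) X).trans ?_).symm⟩
  rw [h3, nC_eq]
  simp only [ev_av, g.ox]

theorem aa_cast (hk : HK S.H) (g : S.KG) (ξ : IrrCharacter S.H) (j : ZMod q) :
    (S.aa ξ j : ℂ) = S.aC ξ j := by
  obtain ⟨ε, h1, -, h3⟩ := exists_eps (q := q) (y := S.yH)
    (Subtype.ext (orderOf_dvd_iff_pow_eq_one.1 g.oy.dvd : S.y ^ q = 1)) j
  refine floor_cast ⟨_, ((hk.mu_cast _ h1 ξ).trans ?_).symm⟩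
  simpa [ev, aC_eq] using h3 ξ 1

theorem key (hk : HK G) (g : S.KG) {a : ℂ[G]} (ha : S.Sub a) (j : ZMod q) {θ : ℕ → ℂ}
    (h0 : ((∑ X, mu a X * deg X : ℕ) : ℂ) = p * θ 0)
    (h1 : ∀ k, 0 < k → k < q → Pim.pc a (S.y ^ k) = θ k) :
    ((∑ X, mu a X * S.nv X j : ℕ) : ℂ) = Fc θ j := by
  have hp : (p : ℂ) ≠ 0 := q_ne
  have h2 : ∀ t, Pim.pc a t = ∑ X : IrrCharacter G, (mu a X : ℂ) * (X : G → ℂ) t := fun t => by
    simp only [Pim.pc, Finset.sum_apply, Pi.smul_apply, smul_eq_mul, hk.mu_cast a ha.1, ev]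
  push_cast at h0 ⊢
  simp only [nv_cast hk g, nC_eq, ← Fc_mul, ← Fc_finsum]
  refine Fc_congr (fun k hk' => ?_) j
  have h3 : ∑ X : IrrCharacter G, (mu a X : ℂ) * ((p : ℂ)⁻¹ * ∑ i ∈ Finset.range p,
      (X : G → ℂ) (S.x ^ i * S.y ^ k)) =
      (p : ℂ)⁻¹ * ∑ i ∈ Finset.range p, Pim.pc a (S.x ^ i * S.y ^ k) := by
    simp only [h2, Finset.mul_sum]
    rw [Finset.sum_comm]
    exact Finset.sum_congr rfl fun _ _ => Finset.sum_congr rfl fun _ _ => by ring
  rw [h3]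
  rcases Nat.eq_zero_or_pos k with rfl | hk0
  · rw [Finset.sum_eq_single 0]
    · simp only [pow_zero, mul_one, h2, ← deg_cast, h0]
      rw [inv_mul_cancel_left₀ hp]
    · intro i hi h0
      refine Pim.pc_eq_zero S.hM ha.2.1 ha.1 ?_
      rw [pow_zero, mul_one, Nat.Coprime.orderOf_pow, g.ox]
      rw [g.ox]
      exact (Nat.Prime.coprime_iff_not_dvd Fact.out).2
        (Nat.not_dvd_of_pos_of_lt (Nat.pos_of_ne_zero h0) (Finset.mem_range.1 hi))
    · exact fun h => absurd (Finset.mem_range.2 (Fact.out : p.Prime).pos) h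
  · have : ∀ i, Pim.pc a (S.x ^ i * S.y ^ k) = θ k := fun i => by
      obtain ⟨c, hc⟩ := isConj_iff.1 (g.conj_xy i k (Nat.not_dvd_of_pos_of_lt hk0 hk'))
      rw [← hc, Pim.isClassFunction_pc a, h1 k hk0 hk']
    simp only [this, Finset.sum_const, Finset.card_range, nsmul_eq_mul]
    rw [inv_mul_cancel_left₀ hp]

theorem fix (g : S.KG) {k : ℕ} (hk : ¬ q ∣ k) {h : G} {z : ZMod p}
    (hz : (h * (S.y ^ k)⁻¹ * h⁻¹) • z = z) : h • (0 : ZMod p) = z := by
  rw [mul_smul, mul_smul, smul_eq_iff_eq_inv_smul, inv_smul_eq_iff] at hz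
  rw [← g.fix_y k _ hk hz.symm, smul_inv_smul]

theorem n_A (hk : HK G) (hkH : HK S.H) (g : S.KG) (a : S.KA) (b : S.KB) (ξ : IrrCharacter S.H)
    (j : ZMod q) : ∑ X, mu (S.A ξ) X * S.nv X j = S.m ξ * S.aa ξ j := by
  classical
  have := Fintype.ofFinite G
  refine Nat.cast_injective (R := ℂ) ?_
  rw [key hk g (a.sub_A ξ) j (θ := fun k => S.m ξ * (ξ : S.H → ℂ) (S.yH ^ k)), Fc_mul, Nat.cast_mul,
    aa_cast hkH g, aC_eq]
  · rw [b.deg_A, pow_zero, ← deg_cast]
    push_cast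
    ring
  · intro k h0 h1
    have h2 : Pim.pc (fB {ξ} * resSub S.H S.e) (S.yH ^ k) = S.m ξ * (ξ : S.H → ℂ) (S.yH ^ k) := by
      rw [Pim.pc, Finset.sum_apply, Finset.sum_eq_single ξ, evalFn_fB_mul_of_mem (Set.mem_singleton ξ), St.m,
        hkH.mu_cast _ (a.res_e ▸ hkH.av_idem _)]
      · rfl
      · intro η _ hη
        rw [evalFn_fB_mul_of_not_mem (B := {ξ}) hη, zero_smul, Pi.zero_apply]
      · simp
    rw [← h2, pc_eq, pc_eq, a.A_eq, ← Finset.sum_filter_of_ne (p := (· ∈ S.H)),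
      Finset.sum_subtype (p := (· ∈ S.H)) _ (by simp)]
    · exact Finset.sum_congr rfl fun h _ => coeff_incSub_coe S.H _ (h * (S.yH ^ k)⁻¹ * h⁻¹)
    · exact fun h _ hh =>
        fix g (Nat.not_dvd_of_pos_of_lt h0 h1) (mem_of_coeff_incSub_ne_zero hh)

theorem coeff_zero (g : S.KG) {k : ℕ} (h0 : 0 < k) (h1 : k < q) (h : G) :
    S.e.coeff (h * (S.y ^ k)⁻¹ * h⁻¹) = 0 ∧ S.sw.coeff (h * (S.y ^ k)⁻¹ * h⁻¹) = 0 := by
  have hq : ¬ q ∣ k * 2 := by
    rw [(Fact.out : q.Prime).dvd_mul, Nat.prime_dvd_prime_iff_eq Fact.out Nat.prime_two]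
    rintro (h | h)
    · exact Nat.not_dvd_of_pos_of_lt h0 h1 h
    · have := S.q11
      omega
  set t := h * (S.y ^ k)⁻¹ * h⁻¹ with ht
  have key : ¬ (t • t • (0 : ZMod p) = 0 ∧ t • t • (1 : ZMod p) = 1) := by
    rintro ⟨k1, k2⟩
    have : t * t = h * (S.y ^ (k * 2))⁻¹ * h⁻¹ := by rw [ht, pow_mul, sq]; group
    rw [← mul_smul, this] at k1 k2
    exact zero_ne_one ((fix g hq k1).symm.trans (fix g hq k2))
  constructor
  · refine if_neg fun hL => key ?_
    have k1 : t • (0 : ZMod p) = 0 := hL.1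
    have k2 : t • (1 : ZMod p) = 1 := hL.2
    rw [k1, k1, k2, k2]
    exact ⟨rfl, rfl⟩
  · rw [St.sw, coeff_single_mul_apply, one_mul]
    refine if_neg fun hL => key ?_
    have k1 : (S.w⁻¹ * t) • (0 : ZMod p) = 0 := hL.1
    have k2 : (S.w⁻¹ * t) • (1 : ZMod p) = 1 := hL.2
    rw [mul_smul, inv_smul_eq_iff] at k1 k2
    rw [S.w0] at k1
    rw [S.w1] at k2
    rw [k1, k2, k1]
    exact ⟨rfl, rfl⟩

theorem n_two (hk : HK G) (g : S.KG) {a : ℂ[G]} (ha : S.Sub a)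
    (h0 : ∑ X, mu a X * deg X = p * q)
    (h1 : ∀ t, S.e.coeff t = 0 → S.sw.coeff t = 0 → a.coeff t = 0) (j : ZMod q) :
    ∑ X, mu a X * S.nv X j = 1 := by
  have := Fintype.ofFinite G
  refine Nat.cast_injective (R := ℂ) ?_
  rw [key hk g ha j (θ := fun k => if k = 0 then q else 0),
    Fc_single fun k hk _ => if_neg hk.ne', if_pos rfl, inv_mul_cancel₀ q_ne]
  · simp
  · rw [h0]; simp
  · intro k k1 k2
    rw [if_neg k1.ne', pc_eq]
    exact Finset.sum_eq_zero fun h _ => h1 _ (coeff_zero g k1 k2 h).1 (coeff_zero g k1 k2 h).2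

theorem gal_of (hk : HK G) (hkH : HK S.H) (g : S.KG) {σ : ℂ ≃+* ℂ} {n : ZMod q}
    (h : ∀ t, σ (ZMod.stdAddChar (n * t)) = ZMod.stdAddChar t) :
    (∀ X j, S.nv (gal σ X) j = S.nv X (n * j)) ∧ ∀ ξ j, S.aa (gal σ ξ) j = S.aa ξ (n * j) := by
  refine ⟨fun X j => ?_, fun ξ j => ?_⟩ <;> refine Nat.cast_injective (R := ℂ) ?_
  · rw [← map_natCast σ (S.nv X _), nv_cast hk g, nv_cast hk g, nC_eq, nC_eq, ← Fc_gal h]
    simp [gal]
  · rw [← map_natCast σ (S.aa ξ _), aa_cast hkH g, aa_cast hkH g, aC_eq, aC_eq, ← Fc_gal h]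
    simp [gal]

end KNx

namespace St

variable {G : Type u} [Group G] [Finite G] {p q : ℕ} [Fact p.Prime] [Fact q.Prime]
  [MulAction G (ZMod p)] (S : St G p q)

open KNx in
theorem kn (hk : HK G) (hkH : HK S.H) (g : S.KG) (a : S.KA) (b : S.KB) : S.KN := by
  classical
  have hp : (p : ℂ) ≠ 0 := q_ne
  have hq : q.Prime := Fact.out
  have sum_nv : ∀ X : IrrCharacter G,
      (p : ℂ) * ∑ j, (S.nv X j : ℂ) = ∑ i ∈ Finset.range p, (X : G → ℂ) (S.x ^ i) := fun X => by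
    simp only [nv_cast hk g, nC_eq, Fc_sum, pow_zero, mul_one]
    rw [mul_inv_cancel_left₀ hp]
  have n_B := n_two hk g a.sub_B b.deg_B fun t h1 h2 => by
    rw [St.B, coeff_smul_apply', coeff_add_apply, h1, h2, add_zero, mul_zero]
  have n_Bm := n_two hk g a.sub_Bm b.deg_Bm fun t h1 h2 => by
    rw [St.Bm, coeff_smul_apply', coeff_sub_apply, h1, h2, sub_zero, mul_zero]
  have deg_aa : ∀ ξ, ∑ j, S.aa ξ j = deg ξ := fun ξ => Nat.cast_injective (R := ℂ) (by
    simp only [Nat.cast_sum, aa_cast hkH g, aC_eq, Fc_sum, pow_zero, deg_cast])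
  have val_y : ∀ ξ : IrrCharacter S.H,
      (ξ : S.H → ℂ) S.yH = ∑ j, (S.aa ξ j : ℂ) * ZMod.stdAddChar j := fun ξ => by
    have := Fc_inv (q := q) (fun k => (ξ : S.H → ℂ) (S.yH ^ k)) hq.one_lt
    simpa [aa_cast hkH g, aC_eq] using this.symm
  refine ⟨nv_cast hk g, aa_cast hkH g, sum_nv, fun X d hd => ?_, fun j => ?_, n_A hk hkH g a b, n_B,
    n_Bm, fun j => ?_, deg_aa, val_y, fun ξ c hc => ⟨?_, ?_⟩, fun σ => ?_, fun k => ?_, fun ξ j => ?_⟩
  · refine Int.cast_injective (α := ℂ) ?_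
    push_cast
    rw [sum_nv, deg_cast, show Finset.range p = Finset.range (2 * q + 1) by rw [← S.hpq],
      Finset.sum_range_succ', pow_zero, add_comm, Finset.sum_congr rfl fun i hi =>
        hd (i + 1) (Nat.not_dvd_of_pos_of_lt i.succ_pos (by
          have := Finset.mem_range.1 hi
          have := S.hpq
          omega))]
    simp
  · refine Nat.cast_injective (R := ℂ) ?_
    rw [nv_cast hk g, nC_eq, Fc_congr (θ' := fun _ => 1) (fun k _ => by simp [triv, hp]), Fc_one]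
    split_ifs <;> simp
  · have h1 : S.aa (triv S.H) j = if j = 0 then 1 else 0 := Nat.cast_injective (R := ℂ) (by
      rw [aa_cast hkH g, aC_eq]
      exact (Fc_one j).trans (by split_ifs <;> simp))
    have h2 : ∑ X, mu S.e X * S.nv X j = 2 := by
      simp only [b.mu_B, add_mul, Finset.sum_add_distrib, n_B, n_Bm]
    simp only [b.mu_A, add_mul, Finset.sum_add_distrib, Finset.sum_mul] at h2
    rw [Finset.sum_comm] at h2
    simp only [n_A hk hkH g a b, a.m_triv, h1] at h2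
    split_ifs at h2 ⊢ <;> omega
  · rw [← deg_aa, ← Finset.add_sum_erase _ _ (Finset.mem_univ 0),
      Finset.sum_congr rfl fun j hj => hc j (Finset.ne_of_mem_erase hj)]
    simp [ZMod.card]
  · have h1 := sum_psi (1 : ZMod q)
    rw [if_neg one_ne_zero, ← Finset.add_sum_erase _ _ (Finset.mem_univ 0)] at h1
    rw [val_y, ← Finset.add_sum_erase _ _ (Finset.mem_univ 0),
      Finset.sum_congr rfl fun j hj => by rw [hc j (Finset.ne_of_mem_erase hj)], ← Finset.mul_sum]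
    simp only [mul_one, AddChar.map_zero_eq_one] at h1 ⊢
    linear_combination (c : ℂ) * h1
  · obtain ⟨m, h1, h2⟩ := exists_pow_of_ringHom hq.ne_zero σ.symm.toRingHom
    refine ⟨ZMod.unitOfCoprime m h1, gal_of hk hkH g fun t => ?_⟩
    rw [ZMod.coe_unitOfCoprime, ← psi_pow, ← h2 _ (psi_pow_q t)]
    exact σ.apply_symm_apply _
  · obtain ⟨τ, h⟩ := exists_ringEquiv_pow hq.ne_zero (ZMod.val_coe_unit_coprime k)
    refine ⟨τ.symm, gal_of hk hkH g fun t => ?_⟩
    rw [τ.symm_apply_eq, h _ (psi_pow_q t), psi_pow, ZMod.natCast_zmod_val]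
  · rw [hkH.bar_eq, (gal_of hk hkH g (n := -1) fun t => ?_).2, neg_one_mul]
    rw [neg_one_mul, AddChar.map_neg_eq_conj]
    exact Complex.conj_conj _

end St

end Cfsg.Lib.W2Q
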