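import Cfsg.Agent.W2Q.Defs

/-!
# A real character of degree `p - 1` and sign `-1` other than `chi` is not orthogonal
-/

set_option autoImplicit false

open scoped ComplexConjugate ComplexOrder MonoidAlgebra
open Cfsg Cfsg.Lib.Char Cfsg.Lib.Block Cfsg.Lib.Block.Princ Cfsg.Lib.Block.Idem Cfsg.Lib.PrimeOne
open MulAction Subgroup MonoidAlgebra

open Cfsg.Lib.W4Q (av io st gs ev mu gal HK)

namespace Cfsg.Lib.W2Q

universe u

namespace KR

open Module Cfsg.Lib.Block.TI

variable {K : Type*} [Field K] {G : Type*} [Group G] {V : Type*} [AddCommGroup V] [Module K V]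
  [FiniteDimensional K V]

theorem main (h2 : (2 : K) ≠ 0) (ρ : Representation K G V) [ρ.IsIrreducible] {x : G} {n : ℕ}
    (hn : Odd n) (hd : finrank K V = n + 1) (hT : (ρ x - 1) ^ (n + 1) = 0)
    (hk : finrank K (LinearMap.ker (ρ x - 1)) ≤ 1) (β : V →ₗ[K] V →ₗ[K] K) (h0 : β ≠ 0)
    (hs : ∀ v w, β v w = β w v) (hi : ∀ g v w, β (ρ g v) (ρ g w) = β v w) : False := by
  have e1 : ρ x⁻¹ * ρ x = 1 := by rw [← map_mul, inv_mul_cancel, map_one]
  have e2 : ρ x * ρ x⁻¹ = 1 := by rw [← map_mul, mul_inv_cancel, map_one]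
  have hi' : ∀ g v w, β (ρ g v) w = β v (ρ g⁻¹ w) := fun g v w => by
    rw [← hi g v, ← Module.End.mul_apply, ← map_mul, mul_inv_cancel, map_one, Module.End.one_apply]
  have hnd : LinearMap.ker β = ⊥ := (eq_bot_or_top ρ _ fun g w hw => LinearMap.ext fun u => by
    rw [hi', LinearMap.mem_ker.1 hw]; rfl).resolve_right fun e => h0 (LinearMap.ker_eq_top.1 e)
  set T := ρ x - 1 with hT'
  obtain ⟨v, hv⟩ : ∃ v, (T ^ n) v ≠ 0 := by
    by_contra h1
    push Not at h1
    have h2 := finrank_le_of_pow_eq_zero (LinearMap.ext h1 : T ^ n = 0)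
    have h3 := Nat.mul_le_mul_left n hk
    omega
  have hker : ∀ u, T ((T ^ n) u) = 0 := fun u => by
    rw [← Module.End.mul_apply, ← pow_succ', hT, LinearMap.zero_apply]
  have hU : ∀ (i : ℕ) u w, β (((ρ x - ρ x⁻¹) ^ i) u) w =
      (-1) ^ i * β u (((ρ x - ρ x⁻¹) ^ i) w) := fun i => by
    induction i with
    | zero => simp
    | succ i ih =>
      intro u w
      conv_lhs => rw [pow_succ, Module.End.mul_apply, ih]
      rw [pow_succ' (ρ x - ρ x⁻¹), Module.End.mul_apply]
      simp only [LinearMap.sub_apply, map_sub, hi', inv_inv]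
      ring
  have hB : ∀ u, ((ρ x - ρ x⁻¹) ^ n) u = (2 : K) ^ n • (T ^ n) u := fun u => by
    have c : Commute (1 + ρ x⁻¹) T :=
      (Commute.one_left _).add_left ((show Commute (ρ x⁻¹) (ρ x) from e1.trans e2.symm).sub_right
        (Commute.one_right _))
    have f : ρ x⁻¹ ((T ^ n) u) = (T ^ n) u := by
      have := hker u
      rw [hT', LinearMap.sub_apply, sub_eq_zero, Module.End.one_apply, ← hT'] at this
      conv_lhs => rw [← this, ← Module.End.mul_apply, e1, Module.End.one_apply]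
    rw [show ρ x - ρ x⁻¹ = (1 + ρ x⁻¹) * T by
      rw [hT', add_mul, mul_sub (ρ x⁻¹), e1]; simp, c.mul_pow, Module.End.mul_apply]
    generalize (T ^ n) u = z at f
    clear hU hker hv hT hd hn
    induction n with
    | zero => simp
    | succ i ih =>
      rw [pow_succ', Module.End.mul_apply, ih, map_smul, LinearMap.add_apply, f,
        Module.End.one_apply, ← two_smul K, smul_smul, pow_succ]
  have skew : ∀ u w, β ((T ^ n) u) w = -β ((T ^ n) w) u := fun u w => by
    have := hU n u w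
    rw [hB, hB, hn.neg_one_pow, map_smul, map_smul, LinearMap.smul_apply, hs u, smul_eq_mul,
      smul_eq_mul, neg_one_mul, ← mul_neg] at this
    exact mul_left_cancel₀ (pow_ne_zero n h2) this
  obtain ⟨w, hw⟩ : ∃ w, β ((T ^ n) v) w ≠ 0 := by
    by_contra h1
    push Not at h1
    exact hv (hnd.le (LinearMap.ext h1 : β ((T ^ n) v) = 0))
  obtain ⟨c, hc⟩ := (finrank_eq_one_iff_of_nonzero' (⟨_, hker v⟩ : LinearMap.ker T)
    fun e => hv (congrArg Subtype.val e)).1 (le_antisymm hk (finrank_pos_iff_exists_ne_zero.2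
      ⟨⟨_, hker v⟩, fun e => hv (congrArg Subtype.val e)⟩)) ⟨_, hker w⟩
  have hc : c • (T ^ n) v = (T ^ n) w := congrArg Subtype.val hc
  have z : ∀ u, β ((T ^ n) u) u = 0 := fun u =>
    (mul_eq_zero.1 (by linear_combination skew u u : 2 * β ((T ^ n) u) u = 0)).resolve_left h2
  exact hw (by rw [skew, ← hc, map_smul, LinearMap.smul_apply, z, smul_zero, neg_zero])

end KR

namespace St

variable {G : Type u} [Group G] [Finite G] {p q : ℕ} [Fact p.Prime] [Fact q.Prime]
  [MulAction G (ZMod p)] (S : St G p q)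

theorem kr (hk : HK G) (g : S.KG) (re : S.RE) : S.KR := fun V hV hb a ha hio h1 => by
  have := charP_kM S.hM
  have := Fintype.ofFinite G
  obtain ⟨σ, hσ, -, h⟩ := re V hV
  obtain ⟨β, h0, hs, hi⟩ := h (hk.fs a V ha hio hb (by rw [← hk.mu_cast a ha, h1, Nat.cast_one]))
  have hq := (Fact.out : q.Prime).pos
  have hp := S.hpq
  have hd : Module.finrank (kM S.M) (Fin (2 * q) → kM S.M) = 2 * q - 1 + 1 := by
    rw [Module.finrank_fin_fun]; omega
  have hT : (σ S.x - 1) ^ (2 * q - 1 + 1) = 0 :=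
    hd ▸ TI.pow_finrank_eq_zero ⟨_, g.cy.pow_eq_zero σ⟩
  refine KR.main (fun e => ?_) σ ⟨q - 1, by omega⟩ hd hT
    (g.cy.finrank_ker_le σ (by rwa [show p - 1 = 2 * q - 1 + 1 by omega])) β h0 hs hi
  have := Nat.le_of_dvd two_pos ((CharP.cast_eq_zero_iff (kM S.M) p 2).1 (by exact_mod_cast e))
  omega

end St

end Cfsg.Lib.W2Q
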