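import Cfsg.Agent.W2Q.Defs

/-!
# Primitive idempotents and the decomposition into projective indecomposable characters
-/

set_option autoImplicit false

open scoped ComplexConjugate ComplexOrder MonoidAlgebra
open Cfsg Cfsg.Lib.Char Cfsg.Lib.Block Cfsg.Lib.Block.Princ Cfsg.Lib.Block.Idem Cfsg.Lib.PrimeOne
open MulAction Subgroup MonoidAlgebra

open Cfsg.Lib.W4Q (av io st gs ev mu gal HK)

namespace Cfsg.Lib.W2Q

universe u

namespace UQ

variable {G : Type*} [Group G] [Finite G]

theorem ev_lift (M : Ideal AlgInt) (X : IrrCharacter G) (c : (kM M)[G]) :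
    ev X (idemLift M c) = tv M (X : G → ℂ) 1 c := by
  rw [tv, ← one_def, one_mul]; rfl

omit [Finite G] in
theorem exists_apply {K V : Type*} [Field K] [AddCommGroup V] [Module K V]
    (σ : Representation K G V) [σ.IsIrreducible] {v : V} (hv : v ≠ 0) (w : V) :
    ∃ u, σ.asAlgebraHom u v = w := by
  refine ((TI.eq_bot_or_top σ (LinearMap.range
    (LinearMap.applyₗ v ∘ₗ σ.asAlgebraHom.toLinearMap)) ?_).resolve_left fun e => hv ?_).ge
    (Submodule.mem_top (x := w))
  · rintro g _ ⟨u, rfl⟩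
    exact ⟨single g 1 * u, by simp⟩
  · exact e.le ⟨1, by simp⟩

theorem assoc {K V : Type*} [Field K] [AddCommGroup V] [Module K V]
    (σ : Representation K G V) [σ.IsIrreducible] {c d : K[G]}
    (hc : PrimIn (⊤ : Subalgebra K K[G]) c) (hd : PrimIn (⊤ : Subalgebra K K[G]) d)
    (h1 : σ.asAlgebraHom c ≠ 0) (h2 : σ.asAlgebraHom d ≠ 0) : Pim.Assoc c d := by
  obtain ⟨v, hv⟩ := DFunLike.ne_iff.1 h1
  obtain ⟨w, hw⟩ := DFunLike.ne_iff.1 h2
  obtain ⟨u', e1⟩ := exists_apply σ hv w
  obtain ⟨u, e2⟩ := exists_apply σ hw v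
  have cc := hc.idem.eq
  have dd := hd.idem.eq
  have cc' : ∀ x, c * (c * x) = c * x := fun x => by rw [← mul_assoc, cc]
  have dd' : ∀ x, d * (d * x) = d * x := fun x => by rw [← mul_assoc, dd]
  obtain ⟨r, -, r1, r2, r3, -⟩ := (hc.isNilpotent_or (z := c * (u * (d * (u' * c)))) trivial
    (cc' _) (by simp only [mul_assoc, cc])).resolve_left fun ⟨n, hn⟩ => by
      have k : ∀ i : ℕ, σ.asAlgebraHom ((c * (u * (d * (u' * c)))) ^ i) (σ.asAlgebraHom c v) =
          σ.asAlgebraHom c v := fun i => by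
        induction i with
        | zero => simp
        | succ i ih =>
          rw [pow_succ', map_mul, Module.End.mul_apply, ih, ← Module.End.mul_apply, ← map_mul]
          simp only [mul_assoc, cc]
          simp only [map_mul, Module.End.mul_apply, e1, e2]
      exact hv ((k n).symm.trans (by rw [hn, map_zero]; rfl))
  simp only [mul_assoc] at r3
  have r4 : ∀ x, c * (u * (d * (u' * (c * (r * x))))) = c * x := fun x => by
    conv_rhs => rw [← r3]
    simp only [mul_assoc]
  have e : c * (u * d) * (d * (u' * (c * r))) = c := by simp only [mul_assoc, dd', r3]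
  refine ⟨_, _, e, (hd.prim _ trivial ?_ ?_ ?_).resolve_left fun e0 => hc.ne_zero ?_⟩
  · simp only [IsIdempotentElem, mul_assoc, dd', r4, cc']
  · simp only [mul_assoc, dd']
  · simp only [mul_assoc, dd]
  · rw [← cc]
    conv_lhs => rw [← e, mul_assoc, ← mul_assoc (d * _), e0, zero_mul, mul_zero]

end UQ

namespace St

variable {G : Type u} [Group G] [Finite G] {p q : ℕ} [Fact p.Prime] [Fact q.Prime]
  [MulAction G (ZMod p)] (S : St G p q)

theorem uq : S.UQ := fun _ _ _ _ σ _ c d hc hd h1 h2 X => by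
  obtain ⟨a, b, e1, e2⟩ := UQ.assoc σ hc hd h1 h2
  rw [mu, mu, UQ.ev_lift, UQ.ev_lift,
    tv_eq_of_assoc X.2.isClassFunction hc.idem hd.idem (one_mem _) (one_mem _) e1 e2]

theorem slot (hk : HK G) (g : S.KG) (b : S.KB) (t : S.KT) (tr : S.Tree) : S.Slot := by
  classical
  have cast : ∀ c : (kM S.M)[G], IsIdempotentElem c → ∀ X : IrrCharacter G,
      (mu (idemLift S.M c) X : ℂ) = tv S.M (X : G → ℂ) 1 c := fun c hc X => by
    rw [hk.mu_cast _ (idemLift_idem hc), UQ.ev_lift]
  intro a ha
  have e : ∀ X, mu (idemLift S.M (redG S.M a)) X = mu a X := fun X => by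
    rw [mu, mu, UQ.ev_lift, tv_redG X.2.isClassFunction ha.2.1 ha.1 (one_mem _), ← one_def, one_mul]
    rfl
  have hi : IsIdempotentElem (redG S.M a) := by
    rw [IsIdempotentElem, ← redG_mul ha.2.1 ha.2.1, ha.1.eq]
  have hv : ∀ X, mu (idemLift S.M (redG S.M a)) X ≠ 0 → S.Val X (S.dl X) := fun X h =>
    t X (by have := b.mu_le a ha X; rw [e] at h; omega)
  simp only [← e]
  generalize redG S.M a = c at hi hv
  revert hv
  refine idem_induction (S := (⊤ : Subalgebra (kM S.M) (kM S.M)[G])) (fun c =>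
    (∀ X, mu (idemLift S.M c) X ≠ 0 → S.Val X (S.dl X)) → ∃ ν : IrrCharacter G → IrrCharacter G → ℕ,
      (∀ W, S.dl W = 1 → mu (idemLift S.M c) W = ∑ V, ν W V) ∧
      (∀ V, S.dl V = -1 → mu (idemLift S.M c) V = ∑ W, ν W V) ∧
      ∀ W V, ν W V ≠ 0 → S.dl W = 1 ∧ S.dl V = -1 ∧ S.Pm W V) (fun _ => ?_) (fun c hc hv => ?_)
    (fun c _ d _ hc hd cd dc ih ih' hv => ?_) trivial hi
  · have : ∀ X : IrrCharacter G, mu (idemLift S.M 0) X = 0 := fun X => by
      exact_mod_cast (cast 0 .zero X).trans (tv_zero X.2.isClassFunction)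
    exact ⟨0, fun W _ => by simp [this], fun W _ => by simp [this], fun _ _ h => (h rfl).elim⟩
  · have h0 := Pim.pim_eq_zero S.hM hc.idem (g := S.x) g.ox.symm.dvd
    have h1 : ∑ X, (mu (idemLift S.M c) X : ℤ) * S.dl X = 0 := by
      rw [Pim.pim_eq, Finset.sum_apply] at h0
      refine Int.cast_injective (α := ℂ) ?_
      push_cast
      rw [← h0]
      refine Finset.sum_congr rfl fun X _ => ?_
      rw [Pi.smul_apply, ← cast c hc.idem, smul_eq_mul]
      by_cases k : mu (idemLift S.M c) X = 0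
      · simp [k]
      · rw [← hv X k 1 fun h => (Fact.out : p.Prime).ne_one (Nat.dvd_one.1 h), pow_one]
    have t1 := tr c hc 1 (.inl rfl)
    have t2 := tr c hc (-1) (.inr rfl)
    have h2 : ∑ X with S.dl X = 1, mu (idemLift S.M c) X =
        ∑ X with S.dl X = -1, mu (idemLift S.M c) X := by
      zify
      rw [← sub_eq_zero, ← h1, Finset.sum_filter, Finset.sum_filter, ← Finset.sum_sub_distrib]
      refine Finset.sum_congr rfl fun X _ => ?_
      rcases S.dl_cases X with k | k | k <;> simp [k]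
    refine ⟨fun W V => if S.dl W = 1 ∧ S.dl V = -1 then
      mu (idemLift S.M c) W * mu (idemLift S.M c) V else 0, fun W k => ?_, fun V k => ?_,
      fun W V k => ?_⟩
    · have := Finset.single_le_sum (f := mu (idemLift S.M c)) (fun _ _ => Nat.zero_le _)
        (show W ∈ Finset.univ.filter fun X => S.dl X = 1 by simpa using k)
      simp only [k, true_and]
      rw [← Finset.sum_filter, ← Finset.mul_sum, ← h2]
      rcases Nat.le_one_iff_eq_zero_or_eq_one.1 t1 with e | e <;> rw [e] at this ⊢ <;> omega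
    · have := Finset.single_le_sum (f := mu (idemLift S.M c)) (fun _ _ => Nat.zero_le _)
        (show V ∈ Finset.univ.filter fun X => S.dl X = -1 by simpa using k)
      simp only [k, and_true]
      rw [← Finset.sum_filter, ← Finset.sum_mul, h2]
      rcases Nat.le_one_iff_eq_zero_or_eq_one.1 t2 with e | e <;> rw [e] at this ⊢ <;> omega
    · obtain ⟨k1, k2⟩ := ite_ne_right_iff.1 k
      exact ⟨k1.1, k1.2, c, hc, mul_ne_zero_iff.1 k2⟩
  · have add : ∀ X : IrrCharacter G, mu (idemLift S.M (c + d)) X =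
        mu (idemLift S.M c) X + mu (idemLift S.M d) X := fun X => by
      refine Nat.cast_injective (R := ℂ) ?_
      rw [Nat.cast_add, cast c hc, cast d hd, cast _ (hc.add hd (by rw [cd, dc, add_zero])),
        tv_add X.2.isClassFunction hc hd cd dc (one_mem _) (one_mem _)]
    obtain ⟨ν, a1, a2, a3⟩ := ih fun X k => hv X (by rw [add]; omega)
    obtain ⟨ν', b1, b2, b3⟩ := ih' fun X k => hv X (by rw [add]; omega)
    refine ⟨fun W V => ν W V + ν' W V, fun W k => ?_, fun V k => ?_, fun W V k => ?_⟩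
    · rw [add, a1 W k, b1 W k, Finset.sum_add_distrib]
    · rw [add, a2 V k, b2 V k, Finset.sum_add_distrib]
    · by_cases k' : ν W V = 0
      exacts [b3 W V (by simpa [k'] using k), a3 W V k']

end St

end Cfsg.Lib.W2Q
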